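import Cfsg.Agent.Lib.TC.Enc

namespace Cfsg.Agent.Lib.CosetCert.D.HeN.Lv1.CT

open Cfsg.Agent.Lib.TC.Enc

set_option maxRecDepth 100000

/-- The chunks of the certificate. -/
noncomputable def tree : Tr Nat :=
  (Tr.node (Tr.leaf (nat_lit 0x910004a5683044b300026c0004d80009b480000004d9820578142b05d05b60284a83c0000026c493b5004f91ae86e75a795b1d0000013660754e04f2a132f552d9d200e8000009b113ea45f1df4ba541969d51e6c000004d982d662f369f14b5408dd336372e9e558a0004d80009b00013600026c1b00000136612a06be02ed4ab5f2d369ccd6aa7146180013600026c0004d80009b468000004d981a4baf56c15cb194110261320000026c7d833804e8dae329501362e19000001360132206d7b19428492d32910c0000009b308cf45f0dcab98ae569847c5c000004d98174581308c012e101993d82e0000026cc202dc04a801966b85a5d1296000001366115dcbdab3d716438092fe0b0000009b3068c70121f6b9e2ad69642e54004cdb100009b2f2a8300026c0004da2a0000026cc0aa0513a65ae74a140b5901500000136610dc6be33c90b664ad2a7fca0000009b2b6cc05e50f6b9c2fc3213e45000b0d3098143c80013600026c0004d8260000026c023bdcc1f3a808cef5a4ce912000001366048e00499c573449808aeb090000009b0088e85ef5aa5202f169237240000004d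85a535af46d35c40d4021b80200000026dcd13457a6362524665a40cb0f00000136603cc20481880426e0082d6478000009b1e4cd20e88bcb879740405a03c000004d98232f807eb24878b2b479631a0000026cc1f2c578d2a0f28555aacfb0d000001366034a001f2b8b9a28ad6c99468000009b3052765eed4ab86938d1f3be30000004d983c54af184c5c88b401eab2180000026cc0612003c5308264900ed440c000e185b00026c0004d80009b000136458000009b00749e00e53ab859140384d82c000004d80374d006c965c80a4b4590e140000026cc050fc08b20006a9400d1208a0000013660c91a3470ed70a1d00668e448000009b151c3700c914b848d803144420000004d98081901123300c10c017a11100000026c01720802d402e103000b0fc080000013600acf40151e17212b2d102ec38000009b3050725e1c58b8e92802939c1c000004d98071500506f5c94ce0139b40e002c1cd00004d80009b00013600026d86000001366090c6bc309c02634804a64830000009b300c250090c00119700222b818000004d98181e2f2e383a387ab4308c0a0000026c01094c02027803e4d5a1442840000013600789600e91d7040f803846c18000009b3032415e0c3a00d91001a2140c000004d98030d00323e00607210506f040000026cc0b0d17820b802e350c2431020000013660082a00b0c40151780282d408000009b00262b004852b8084c01114200000004d801013001e245c002200708a020000026cc0083008406b30a0f003440030000013660141cc8002400c0f2d0608410000009b00161c002832b8101800403804000004d80090b001014000c0ab40812000000026cc0000800505800e12000806000000013660101400080400608310000))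 (Tr.leaf (nat_lit 0x840000026c464cc8c4d9a0ca1305b0a5e3e0000013661425a0e84b175198ad7d2b9e8000009b307b2403124a2224a024f93cd4000004d98358e018b1d11364211e47c6a0000026cc28cd4c4b8cae9d225ad631b400000136052224bda4445488a869914590000009b309b1a1b2614b99424847864c4000004d9831808171022eee0a125410600000026cc25c2d7d1999c8b0e5ac1ff2f0000013660bdf8be644d74c8b0490fdd48000009b0276f95ea5f0763c1d6cb86aa4000004d85ac788d66f35ca5e04233d4500000026cc2747953076ae930f5aa1d9a700000136613e4cbd3ba574f948688ea130000009b0566e406b1c451eb996a670a90000004d98426f8784de5c91ba028cb8480000026cc20b641c16c0c7cda5a91ae23000001364ee1740d8ad97275ead46b5)))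

end Cfsg.Agent.Lib.CosetCert.D.HeN.Lv1.CT
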