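import Cfsg.Agent.Lib.CosetCert.D.HeN.Tbl
import Cfsg.Agent.Lib.CosetCert.D.HeN.Lv1.CT

namespace Cfsg.Agent.Lib.CosetCert.D.HeN.Lv1.Tab

open Cfsg.Agent.Lib.CosetCert Cfsg.Agent.Lib.TC.Core Cfsg.Agent.Lib.TC.Enc Cfsg.Agent.Lib.TC.Pres Cfsg.Agent.Lib.TC.Perm Cfsg.Agent.Lib.TC.Main

set_option maxRecDepth 100000

open Cfsg.Agent.Lib.CosetCert.D.HeN.Tbl

/-- The chunks. -/
noncomputable def ctree : Tr Nat := Cfsg.Agent.Lib.CosetCert.D.HeN.Lv1.CT.tree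

/-- The relator rotations. -/
noncomputable def rotT : Tr (List Nat) := (Tr.node (Tr.node (Tr.node (Tr.node (Tr.node (Tr.node (Tr.leaf []) (Tr.leaf [0,1,2,0,1,3,3,3,0,1,2])) (Tr.node (Tr.leaf [0,3,1,0,3,1,0,3,1]) (Tr.leaf [3,2]))) (Tr.node (Tr.node (Tr.leaf [1,2,1,2,1,2,1,2]) (Tr.leaf [1,3,1,0,2,0,1,3,1,0,2,0])) (Tr.node (Tr.leaf [2,1,0,2,1,0,2,1,0]) (Tr.leaf [])))) (Tr.node (Tr.node (Tr.node (Tr.leaf [0,3,0,2,0,3,0,2]) (Tr.leaf [1,2,1,0,2,0,1,2,1,0,2,0])) (Tr.node (Tr.leaf [1,3,0,1,3,0,1,3,0]) (Tr.leaf []))) (Tr.node (Tr.node (Tr.leaf [1,2,0,1,2,0,1,2,0]) (Tr.leaf [0,2,2,1,2,2,0,3,3,1,2,2])) (Tr.node (Tr.leaf [1,2,1,2,1,3,3,3,1,2]) (Tr.leaf []))))) (Tr.node (Tr.node (Tr.node (Tr.node (Tr.leaf [3,3,3,3]) (Tr.leaf [2,2,1,0,3,1,0,3,1,0,2])) (Tr.node (Tr.leaf [3,1,0,3,1,0,3,1,0]) (Tr.leaf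 []))) (Tr.node (Tr.node (Tr.leaf [1,3,1,3,1,3,1,3]) (Tr.leaf [2,2,1,2,2,0,2,2,1,3,3,0])) (Tr.node (Tr.leaf [0,3,0,2,0,2,2,2,0,2]) (Tr.leaf [])))) (Tr.node (Tr.node (Tr.node (Tr.leaf [0,2,0,3,0,2,0,3]) (Tr.leaf [1,0,3,0,1,2,1,0,3,0,1,2])) (Tr.node (Tr.leaf [2,1,0,2,1,0,2,1,0]) (Tr.leaf []))) (Tr.node (Tr.node (Tr.leaf [3,1,0,3,1,0,3,1,0]) (Tr.leaf [1,1])) (Tr.node (Tr.leaf [3,3,1,2,1,2,1,2,1,3]) (Tr.leaf [])))))) (Tr.node (Tr.node (Tr.node (Tr.node (Tr.node (Tr.leaf [2,2,2,2]) (Tr.leaf [1,2,0,1,3,3,3,0,1,2,0])) (Tr.node (Tr.leaf [3,1,0,3,1,0,3,1,0]) (Tr.leaf []))) (Tr.node (Tr.node (Tr.leaf [1,2,1,2,1,2,1,2]) (Tr.leaf [1,0,2,0,1,3,1,0,2,0,1,3])) (Tr.node (Tr.leaf [1,0,2,1,0,2,1,0,2]) (Tr.leaf [])))) (Tr.node (Tr.node (Tr.node (Tr.leaf [3,0,2,0,3,0,2,0]) (Tr.leaf [1,3,1,0,3,0,1,3,1,0,3,0]))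 (Tr.node (Tr.leaf [3,0,1,3,0,1,3,0,1]) (Tr.leaf []))) (Tr.node (Tr.node (Tr.leaf [2,0,1,2,0,1,2,0,1]) (Tr.leaf [0,0])) (Tr.node (Tr.leaf [1,2,1,3,3,3,1,2,1,2]) (Tr.leaf []))))) (Tr.node (Tr.node (Tr.node (Tr.node (Tr.leaf [2,0,3,0,2,0,3,0]) (Tr.leaf [0,2,1,0,3,3,3,1,0,2,1])) (Tr.node (Tr.leaf [0,1,3,0,1,3,0,1,3]) (Tr.leaf []))) (Tr.node (Tr.node (Tr.leaf [3,1,3,1,3,1,3,1]) (Tr.leaf [3,3,0,2,2,1,3,3,0,3,3,1])) (Tr.node (Tr.leaf [2,0,3,0,3,3,3,0,3,0]) (Tr.leaf [])))) (Tr.node (Tr.node (Tr.node (Tr.leaf [2,1,2,1,2,1,2,1]) (Tr.leaf [3,0,1,2,1,0,3,0,1,2,1,0])) (Tr.node (Tr.leaf [1,0,2,1,0,2,1,0,2]) (Tr.leaf []))) (Tr.node (Tr.node (Tr.leaf [1,0,3,1,0,3,1,0,3]) (Tr.leaf [2,3])) (Tr.node (Tr.leaf [3,1,3,1,2,2,2,1,3,1]) (Tr.leaf [])))))))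

/-- The witnesses of the rotations. -/
noncomputable def witT : Tr (Nat × Nat × Bool) := (Tr.node (Tr.node (Tr.node (Tr.node (Tr.node (Tr.node (Tr.leaf (0,0,false)) (Tr.leaf (7,3,false))) (Tr.node (Tr.leaf (3,2,true)) (Tr.leaf (13,3,false)))) (Tr.node (Tr.node (Tr.leaf (2,2,false)) (Tr.leaf (10,2,true))) (Tr.node (Tr.leaf (4,3,true)) (Tr.leaf (0,0,false))))) (Tr.node (Tr.node (Tr.node (Tr.leaf (1,2,false)) (Tr.leaf (9,1,false))) (Tr.node (Tr.leaf (4,1,false)) (Tr.leaf (0,0,false)))) (Tr.node (Tr.node (Tr.leaf (3,1,false)) (Tr.leaf (12,0,false))) (Tr.node (Tr.leaf (6,2,false)) (Tr.leaf (0,0,false)))))) (Tr.node (Tr.node (Tr.node (Tr.node (Tr.leaf (0,1,true)) (Tr.leaf (7,1,true))) (Tr.node (Tr.leaf (3,6,true)) (Tr.leaf (0,0,false)))) (Tr.node (Tr.node (Tr.leaf (2,1,true)) (Tr.leaf (11,1,false)))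 (Tr.node (Tr.leaf (5,8,false)) (Tr.leaf (0,0,false))))) (Tr.node (Tr.node (Tr.node (Tr.leaf (1,4,false)) (Tr.leaf (10,3,false))) (Tr.node (Tr.leaf (4,0,true)) (Tr.leaf (0,0,false)))) (Tr.node (Tr.node (Tr.leaf (3,0,true)) (Tr.leaf (13,1,false))) (Tr.node (Tr.leaf (6,8,false)) (Tr.leaf (0,0,false))))))) (Tr.node (Tr.node (Tr.node (Tr.node (Tr.node (Tr.leaf (0,1,false)) (Tr.leaf (7,4,false))) (Tr.node (Tr.leaf (3,3,true)) (Tr.leaf (0,0,false)))) (Tr.node (Tr.node (Tr.leaf (2,6,false)) (Tr.leaf (10,4,true))) (Tr.node (Tr.leaf (4,4,true)) (Tr.leaf (0,0,false))))) (Tr.node (Tr.node (Tr.node (Tr.leaf (1,3,false)) (Tr.leaf (9,2,true))) (Tr.node (Tr.leaf (4,2,false)) (Tr.leaf (0,0,false)))) (Tr.node (Tr.node (Tr.leaf (3,2,false)) (Tr.leaf (13,0,false))) (Tr.node (Tr.leaf (6,4,false)) (Tr.leaf (0,0,false))))))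 (Tr.node (Tr.node (Tr.node (Tr.node (Tr.leaf (1,1,false)) (Tr.leaf (8,2,true))) (Tr.node (Tr.leaf (4,0,false)) (Tr.leaf (0,0,false)))) (Tr.node (Tr.node (Tr.leaf (2,2,true)) (Tr.leaf (11,9,true))) (Tr.node (Tr.leaf (5,0,true)) (Tr.leaf (0,0,false))))) (Tr.node (Tr.node (Tr.node (Tr.leaf (2,1,false)) (Tr.leaf (10,5,false))) (Tr.node (Tr.leaf (4,1,true)) (Tr.leaf (0,0,false)))) (Tr.node (Tr.node (Tr.leaf (3,1,true)) (Tr.leaf (13,2,false))) (Tr.node (Tr.leaf (6,6,true)) (Tr.leaf (0,0,false))))))))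

/-- The subgroup rotations. -/
noncomputable def srotT : Tr (List Nat × Nat × List Nat) := (Tr.node (Tr.node (Tr.leaf ([],0,[])) (Tr.leaf ([2,2],1,[3,3]))) (Tr.node (Tr.leaf ([2,0,1,0],2,[])) (Tr.leaf ([],0,[]))))

/-- The certificate. -/
noncomputable def cert : Cert :=
  mkCert 4 82 310 2 49 52 6 63 133 23 92 124 8388607 4294967295 9 7 511 127 16 14 3 ctree.get rotT.get srotT.get

/-- The relators. -/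
def rels : List (List Nat) :=
  [[2,2,2,2],
   [0,2,0,3,0,2,0,3],
   [1,2,1,2,1,2,1,2],
   [0,1,2,0,1,2,0,1,2],
   [0,1,3,0,1,3,0,1,3],
   [0,2,0,2,2,2,0,2,0,3],
   [1,2,1,2,1,2,1,3,3,3],
   [0,1,2,0,1,2,0,1,3,3,3],
   [0,1,2,2,2,0,1,3,0,1,3],
   [0,1,2,1,0,2,0,1,2,1,0,2],
   [0,1,2,1,0,3,0,1,2,1,0,3],
   [0,2,2,1,2,2,0,2,2,1,3,3],
   [0,2,2,1,2,2,0,3,3,1,2,2]]

/-- The words of the subgroup. -/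
def subs : List (List Nat) :=
  [[0],
   [2,0,1,0,2],
   [2,2,1,3,3]]

end Cfsg.Agent.Lib.CosetCert.D.HeN.Lv1.Tab
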